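import Cfsg.Agent.Lib.LocalEven.U34Uniq

/-!
The Suzuki 2-group of order 64 has no automorphism which squares to an inner one and exchanges two
involutions.
-/

set_option autoImplicit false
set_option synthInstance.maxHeartbeats 400000
set_option synthInstance.maxSize 4000

namespace Cfsg.Agent.RankTwoSylow

open Cfsg.Agent.U34Uniq

universe u

/-- The transposition of the four-group of bits with the given fixed point. -/
def swp (n₀ n : B × B) : B × B := if n = 1 ∨ n = n₀ then n else n * n₀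

/-- A vector scaled by a bit. -/
def scp (i : B) (x : B × B × B × B) : B × B × B × B := if i = 1 then 1 else x

/-- The map with given values on the unit vectors. -/
def lin (e₁ e₂ e₃ e₄ x : B × B × B × B) : B × B × B × B :=
  scp x.1 e₁ * (scp x.2.1 e₂ * (scp x.2.2.1 e₃ * scp x.2.2.2 e₄))

/-- The first unit vector. -/
def u₁ : B × B × B × B := (Multiplicative.ofAdd 1, 1, 1, 1)
/-- The second unit vector. -/
def u₂ : B × B × B × B := (1, Multiplicative.ofAdd 1, 1, 1)
/-- The third unit vector. -/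
def u₃ : B × B × B × B := (1, 1, Multiplicative.ofAdd 1, 1)
/-- The fourth unit vector. -/
def u₄ : B × B × B × B := (1, 1, 1, Multiplicative.ofAdd 1)

set_option maxRecDepth 100000 in
set_option maxHeartbeats 8000000 in
theorem no_lin : ∀ n₀ : B × B, n₀ ≠ 1 →
    ∀ e₁, NF.form e₁ = swp n₀ (NF.form u₁) → ∀ e₂, NF.form e₂ = swp n₀ (NF.form u₂) →
    ∀ e₃, NF.form e₃ = swp n₀ (NF.form u₃) → ∀ e₄, NF.form e₄ = swp n₀ (NF.form u₄) →
    lin e₁ e₂ e₃ e₄ e₁ = u₁ → lin e₁ e₂ e₃ e₄ e₂ = u₂ → lin e₁ e₂ e₃ e₄ e₃ = u₃ →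
    lin e₁ e₂ e₃ e₄ e₄ = u₄ →
    ¬ (∀ x, NF.form (lin e₁ e₂ e₃ e₄ x) = swp n₀ (NF.form x)) := by
  decide +kernel

theorem swp_cases : ∀ a b n : B × B, a ≠ 1 → b ≠ 1 → a ≠ b →
    (n = 1 ∧ swp (a * b) n = 1) ∨ (n = a ∧ swp (a * b) n = b) ∨ (n = b ∧ swp (a * b) n = a) ∨
      (n = a * b ∧ swp (a * b) n = b * a) := by decide +kernel

theorem mul_eq_one_bits : ∀ a b : B × B, a * b = 1 → a = b := by decide

theorem dec_vec (x : B × B × B × B) : x = lin u₁ u₂ u₃ u₄ x := by
  revert x; decide +kernel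

variable {P : Type u} [Group P] [Finite P]

/-- There is no such automorphism. -/
theorem no_swap_auto (N : NF P) (hcard : Nat.card P = 64) (θ : MulAut P)
    (hθ2 : ∀ x, ∃ c : P, θ (θ x) = c * x * c⁻¹) {v₁ v₂ : P} (hv₁ : v₁ * v₁ = 1) (hv₂ : v₂ * v₂ = 1)
    (h12 : v₁ ≠ v₂) (e₁ : θ v₁ = v₂) (e₂ : θ v₂ = v₁) : False := by
  classical
  obtain ⟨π, hπs, hπk, hπ⟩ := N.exists_proj hcard
  have hkv : ∀ p : P, π p = 1 ↔ p * p = 1 := by
    intro p
    constructor
    · intro h
      rw [hπ p, h]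
      show N.iV (NF.form 1) = 1
      rw [show NF.form 1 = 1 from by decide, map_one]
    · intro h
      refine NF.form_eq_one _ (N.iV_injective ?_)
      rw [← hπ p, h, map_one]
  have hdep : ∀ p q : P, π p = π q → π (θ p) = π (θ q) := by
    intro p q h
    have h1 : π (p⁻¹ * q) = 1 := by rw [map_mul, map_inv, h, inv_mul_cancel]
    have h2 : π (θ (p⁻¹ * q)) = 1 := by
      rw [hkv, ← map_mul, (hkv _).1 h1, map_one]
    rw [map_mul, map_inv, map_mul, map_inv, inv_mul_eq_one] at h2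
    exact h2
  choose sec hsec using hπs
  let L : B × B × B × B → B × B × B × B := fun x => π (θ (sec x))
  have hL : ∀ p, L (π p) = π (θ p) := fun p => hdep _ _ (hsec _)
  have hLmul : ∀ x y, L (x * y) = L x * L y := by
    intro x y
    conv_lhs => rw [← hsec x, ← hsec y, ← map_mul, hL, map_mul, map_mul]
  have hL1 : L 1 = 1 := by rw [← map_one π, hL, map_one, map_one]
  have hlin : ∀ x, L x = lin (L u₁) (L u₂) (L u₃) (L u₄) x := by
    intro x
    have hs : ∀ (i : B) (v : B × B × B × B), L (scp i v) = scp i (L v) := by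
      intro i v
      unfold scp
      split_ifs
      · exact hL1
      · rfl
    conv_lhs => rw [dec_vec x]
    simp only [lin, hLmul, hs]
  have hLL : ∀ x, L (L x) = x := by
    intro x
    obtain ⟨c, hc⟩ := hθ2 (sec x)
    rw [show L x = π (θ (sec x)) from rfl, hL, hc, map_mul, map_mul, map_inv, mul_comm (π c),
      mul_inv_cancel_right, hsec]
  -- the action on the four-group
  have hrange : ∀ p : P, p * p = 1 → ∃ n, N.iV n = p := fun p hp => by
    have h : p ∈ π.ker := (hkv p).2 hp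
    rw [hπk] at h
    exact h
  have hiV2 : ∀ n, N.iV n * N.iV n = 1 := by
    intro n
    rw [← map_mul, show n * n = 1 from by revert n; decide, map_one]
  choose τ hτ using fun n => hrange (θ (N.iV n)) (by rw [← map_mul, hiV2, map_one])
  obtain ⟨n₁, hn₁⟩ := hrange v₁ hv₁
  obtain ⟨n₂, hn₂⟩ := hrange v₂ hv₂
  have hτmul : ∀ a b, τ (a * b) = τ a * τ b := fun a b =>
    N.iV_injective (by rw [hτ, map_mul, map_mul, map_mul, hτ, hτ])
  have ht1 : τ n₁ = n₂ := N.iV_injective (by rw [hτ, hn₁, e₁, hn₂])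
  have ht2 : τ n₂ = n₁ := N.iV_injective (by rw [hτ, hn₂, e₂, hn₁])
  have hn12 : n₁ ≠ n₂ := fun h => h12 (by rw [← hn₁, ← hn₂, h])
  have hn₁1 : n₁ ≠ 1 := fun h => h12 (by
    rw [← e₁, ← hn₁, h, map_one, map_one])
  have hn₂1 : n₂ ≠ 1 := fun h => h12 (by
    rw [← e₂, ← hn₂, h, map_one, map_one])
  have hτswp : ∀ n, τ n = swp (n₁ * n₂) n := by
    intro n
    rcases swp_cases n₁ n₂ n hn₁1 hn₂1 hn12 with ⟨h, hs⟩ | ⟨h, hs⟩ | ⟨h, hs⟩ | ⟨h, hs⟩ <;> rw [hs, h]
    · exact N.iV_injective (by rw [hτ, map_one, map_one])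
    · exact ht1
    · exact ht2
    · rw [hτmul, ht1, ht2]
  have hform : ∀ x, NF.form (L x) = swp (n₁ * n₂) (NF.form x) := by
    intro x
    rw [← hτswp]
    refine N.iV_injective ?_
    rw [hτ]
    show N.iV (NF.form (π (θ (sec x)))) = _
    rw [← hπ, ← map_mul, hπ (sec x), hsec]
  have hne : n₁ * n₂ ≠ 1 := by
    exact fun h => hn12 (mul_eq_one_bits _ _ h)
  refine no_lin (n₁ * n₂) hne (L u₁) (hform _) (L u₂) (hform _) (L u₃) (hform _) (L u₄) (hform _)
    ?_ ?_ ?_ ?_ (fun x => by rw [← hlin]; exact hform x)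
  all_goals rw [← hlin]; exact hLL _

end Cfsg.Agent.RankTwoSylow
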