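import Cfsg.Prelude.Def_CaseTheorems
import Cfsg.Prelude.Def_TwoFusion
import Cfsg.Agent.Lib.Transfer.Fusion
import Cfsg.Agent.Lib.LocalEven.KleinGammaRank
import Cfsg.Agent.Lib.LocalEven.RankTwoTrans
import Cfsg.Agent.Lib.RankTwoSylow.Excl

/-!
Sylow 2-subgroups of groups of 2-rank two without isolated involutions: maximal class, wreathed,
or admitting an automorphism permuting the involutions transitively.
-/

set_option autoImplicit false
set_option linter.style.haveILetI false
set_option linter.unusedSectionVars false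

namespace Cfsg.Agent.RankTwoSylow

universe u

/-- Dihedral or quasi-dihedral. -/
def MaxClass (T : Type u) [Group T] : Prop :=
  (∃ m : ℕ, 2 ≤ m ∧ Nonempty (T ≃* DihedralGroup m)) ∨ Cfsg.IsQuasiDihedral T

section Two

variable {T : Type u} [Group T] [Finite T]

theorem ord_two {x : T} (h : x * x = 1) (h1 : x ≠ 1) : orderOf x = 2 :=
  orderOf_eq_prime (by rw [pow_two]; exact h) h1

theorem exp_two_klein (h4 : Nat.card T = 4) (h : ∀ x : T, x * x = 1) :
    Nonempty (T ≃* DihedralGroup 2) := by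
  haveI : IsKleinFour T := ⟨h4, by
    haveI : Nontrivial T := Finite.one_lt_card_iff_nontrivial.1 (by omega)
    refine Monoid.exponent_eq_prime_iff Nat.prime_two |>.2 fun g hg => orderOf_eq_prime ?_ hg
    rw [pow_two]
    exact h g⟩
  exact IsKleinFour.nonempty_mulEquiv

/-- An involution centralised by four elements only. -/
theorem maxClass_of_small (hT : IsPGroup 2 T) {x y : T} (hx : x * x = 1) (hx1 : x ≠ 1) (hy : y * y = 1)
    (hy1 : y ≠ 1) (hxy : x ≠ y) (hc : x * y = y * x)
    (h : ∀ w : T, w * x = x * w → w = 1 ∨ w = x ∨ w = y ∨ w = x * y) : MaxClass T := by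
  classical
  have hset : ((Subgroup.centralizer ({x} : Set T) : Subgroup T) : Set T) = ({1, x, y, x * y} : Set T) := by
    ext w
    simp only [SetLike.mem_coe, Subgroup.mem_centralizer_singleton_iff, Set.mem_insert_iff,
      Set.mem_singleton_iff]
    refine ⟨h w, ?_⟩
    rintro (rfl | rfl | rfl | rfl)
    · simp
    · rfl
    · exact hc.symm
    · rw [mul_assoc, ← hc]
  have hxy1 : x * y ≠ 1 := fun e => hxy ((inv_eq_of_mul_eq_one_right hx).symm.trans
    (inv_eq_of_mul_eq_one_right e))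
  have hC : Nat.card ↥(Subgroup.centralizer ({x} : Set T)) = 4 := by
    rw [← SetLike.coe_sort_coe, Nat.card_coe_set_eq, hset,
      show ({1, x, y, x * y} : Set T) = ↑({1, x, y, x * y} : Finset T) by simp, Set.ncard_coe_finset]
    have a1 : x * y ≠ x := fun e => hy1 (mul_eq_left.1 e)
    have a2 : x * y ≠ y := fun e => hx1 (mul_eq_right.1 e)
    rw [Finset.card_insert_of_notMem, Finset.card_insert_of_notMem, Finset.card_insert_of_notMem,
      Finset.card_singleton]
    · simp [a2.symm]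
    · simp [hxy, a1.symm]
    · simp [hx1.symm, hy1.symm, hxy1.symm]
  rcases CentFour.dihedral_or_quasiDihedral hT (ord_two hx hx1) hC with ⟨m, ⟨e⟩⟩ | hq | h4
  · left
    refine ⟨m, ?_, ⟨e⟩⟩
    have hT4 : 4 ≤ Nat.card T := hC ▸ Subgroup.card_le_card_group _
    have hcard : Nat.card T = Nat.card (DihedralGroup m) := Nat.card_congr e.toEquiv
    rw [DihedralGroup.nat_card] at hcard
    omega
  · exact Or.inr hq
  · left
    refine ⟨2, le_rfl, exp_two_klein h4 fun w => ?_⟩
    have htop : Subgroup.centralizer ({x} : Set T) = ⊤ :=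
      Subgroup.eq_top_of_card_eq _ (hC.trans h4.symm)
    have hw : w ∈ ((Subgroup.centralizer ({x} : Set T) : Subgroup T) : Set T) := by
      rw [htop]; exact Subgroup.mem_top w
    rw [hset] at hw
    simp only [Set.mem_insert_iff, Set.mem_singleton_iff] at hw
    rcases hw with rfl | rfl | rfl | rfl
    · simp
    · exact hx
    · exact hy
    · calc x * y * (x * y) = x * (y * x) * y := by group
        _ = x * x * (y * y) := by rw [← hc]; group
        _ = 1 := by rw [hx, hy, mul_one]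

/-- In a group of rank two, commuting involutions generate the four-group. -/
theorem third (h2 : Cfsg.PRankLE 2 2 T) {a b c : T} (ha : a * a = 1) (hb : b * b = 1) (hc : c * c = 1)
    (ha1 : a ≠ 1) (hb1 : b ≠ 1) (hab : a ≠ b) (cab : a * b = b * a) (cac : a * c = c * a)
    (cbc : b * c = c * b) : c = 1 ∨ c = a ∨ c = b ∨ c = a * b := by
  classical
  by_contra! hcon
  obtain ⟨n1, n2, n3, n4⟩ := hcon
  let H := Subgroup.closure ({a, b, c} : Set T)
  have hgen : ∀ x ∈ ({a, b, c} : Set T), ∀ y ∈ ({a, b, c} : Set T), x * y = y * x := by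
    rintro x (rfl | rfl | rfl) y (rfl | rfl | rfl) <;>
      first | rfl | exact cab | exact cab.symm | exact cac | exact cac.symm | exact cbc | exact cbc.symm
  have hcomm : ∀ x ∈ H, ∀ y ∈ H, x * y = y * x := by
    have h1 : H ≤ Subgroup.centralizer ({a, b, c} : Set T) :=
      (Subgroup.closure_le _).2 fun x hx => Subgroup.mem_centralizer_iff.2 fun y hy => hgen y hy x hx
    have h2 : H ≤ Subgroup.centralizer (H : Set T) := by
      refine (Subgroup.closure_le _).2 fun y hy => Subgroup.mem_centralizer_iff.2 fun x hx => ?_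
      exact (Subgroup.mem_centralizer_iff.1 (h1 hx) y hy).symm
    intro x hx y hy
    exact (Subgroup.mem_centralizer_iff.1 (h2 hx) y hy).symm
  have hexp : ∀ x ∈ H, x ^ 2 = 1 := by
    intro x hx
    induction hx using Subgroup.closure_induction with
    | mem y hy =>
      rw [pow_two]
      rcases hy with rfl | rfl | rfl <;> assumption
    | one => simp
    | mul y z hy hz iy iz =>
      rw [(show Commute y z from hcomm y hy z hz).mul_pow, iy, iz, one_mul]
    | inv y _ iy => rw [inv_pow, iy, inv_one]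
  have hle := h2 H ⟨⟨fun x y => Subtype.ext (hcomm _ x.2 _ y.2)⟩⟩ hexp
  have ma : a ∈ H := Subgroup.subset_closure (by simp)
  have mb : b ∈ H := Subgroup.subset_closure (by simp)
  have mc : c ∈ H := Subgroup.subset_closure (by simp)
  let f : Finset T := {1, a, b, a * b, c}
  have hf : ∀ x ∈ f, x ∈ H := by
    intro x hx
    simp only [f, Finset.mem_insert, Finset.mem_singleton] at hx
    rcases hx with rfl | rfl | rfl | rfl | rfl
    exacts [one_mem _, ma, mb, mul_mem ma mb, mc]
  have hcard : f.card = 5 := by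
    have hab1 : a * b ≠ 1 := fun e => hab ((inv_eq_of_mul_eq_one_right ha).symm.trans
      (inv_eq_of_mul_eq_one_right e))
    have a1 : a * b ≠ a := fun e => hb1 (mul_eq_left.1 e)
    have a2 : a * b ≠ b := fun e => ha1 (mul_eq_right.1 e)
    simp only [f]
    rw [Finset.card_insert_of_notMem, Finset.card_insert_of_notMem, Finset.card_insert_of_notMem,
      Finset.card_insert_of_notMem, Finset.card_singleton]
    · simp [n4.symm]
    · simp [a2.symm, n3.symm]
    · simp [hab, a1.symm, n2.symm]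
    · simp [ha1.symm, hb1.symm, hab1.symm, n1.symm]
  have : f.card ≤ Nat.card H := by
    rw [← Nat.card_eq_finsetCard]
    exact Nat.card_le_card_of_injective (fun x => (⟨x.1, hf x.1 x.2⟩ : H))
      fun x y h => Subtype.ext (congrArg (fun w : H => (w : T)) h)
  omega

/-- A cyclic group has at most one involution. -/
theorem cyc_unique {g u w : T} (hu : u ∈ Subgroup.zpowers g) (hw : w ∈ Subgroup.zpowers g) (hu2 : u * u = 1)
    (hw2 : w * w = 1) (hu1 : u ≠ 1) (hw1 : w ≠ 1) : u = w := by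
  obtain ⟨i, hi⟩ := hu
  obtain ⟨j, hj⟩ := hw
  simp only at hi hj
  subst hi hj
  have hi' : (orderOf g : ℤ) ∣ i + i := by rw [orderOf_dvd_iff_zpow_eq_one, zpow_add]; exact hu2
  have hj' : (orderOf g : ℤ) ∣ j + j := by rw [orderOf_dvd_iff_zpow_eq_one, zpow_add]; exact hw2
  have hi1 : ¬ (orderOf g : ℤ) ∣ i := fun h => hu1 (orderOf_dvd_iff_zpow_eq_one.1 h)
  have hj1 : ¬ (orderOf g : ℤ) ∣ j := fun h => hw1 (orderOf_dvd_iff_zpow_eq_one.1 h)
  have key : (orderOf g : ℤ) ∣ i - j := by
    obtain ⟨p, hp⟩ := hi'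
    obtain ⟨q, hq⟩ := hj'
    have hpo : Odd p := by
      by_contra hpe
      obtain ⟨p', rfl⟩ := Int.not_odd_iff_even.1 hpe
      exact hi1 ⟨p', by linarith [hp, mul_add (orderOf g : ℤ) p' p']⟩
    have hqo : Odd q := by
      by_contra hqe
      obtain ⟨q', rfl⟩ := Int.not_odd_iff_even.1 hqe
      exact hj1 ⟨q', by linarith [hq, mul_add (orderOf g : ℤ) q' q']⟩
    obtain ⟨r, hr⟩ := hpo.sub_odd hqo
    refine ⟨r, ?_⟩
    have : (orderOf g : ℤ) * (p - q) = (orderOf g : ℤ) * (r + r) := by rw [hr]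
    rw [mul_sub, mul_add] at this
    linarith
  rw [orderOf_dvd_iff_zpow_eq_one, zpow_sub, mul_inv_eq_one] at key
  exact key

/-- No normal four-group: maximal class. -/
theorem maxClass_of_no_normal_four (hT : IsPGroup 2 T) (h1 : ¬ Cfsg.PRankLE 2 1 T)
    (hno : ∀ V : Subgroup T, V.Normal → Nat.card V = 4 → (∀ v ∈ V, v * v = 1) → False) : MaxClass T := by
  classical
  -- two commuting involutions
  obtain ⟨a₀, b₀, ha, hb, ha1, hb1, hab, hcab⟩ :
      ∃ a b : T, a * a = 1 ∧ b * b = 1 ∧ a ≠ 1 ∧ b ≠ 1 ∧ a ≠ b ∧ a * b = b * a := by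
    unfold Cfsg.PRankLE at h1
    push Not at h1
    obtain ⟨A, hAc, hA2, hAcard⟩ := h1
    rw [pow_one] at hAcard
    haveI : Nontrivial A := Finite.one_lt_card_iff_nontrivial.1 (by omega)
    obtain ⟨a, ha⟩ := exists_ne (1 : A)
    obtain ⟨b, hb1, hab⟩ : ∃ b : A, b ≠ 1 ∧ b ≠ a := by
      by_contra! hcon
      have hsub : ∀ x : A, x = 1 ∨ x = a := fun x => or_iff_not_imp_left.2 (hcon x)
      have : Nat.card A ≤ 2 := by
        have := Nat.card_le_card_of_surjective (fun i : Fin 2 => if i = 0 then (1 : A) else a) fun x => by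
          rcases hsub x with h | h
          · exact ⟨0, by simp [h]⟩
          · exact ⟨1, by simp [h]⟩
        simpa using this
      omega
    have hA2' : ∀ x ∈ A, x * x = 1 := fun x hx => by rw [← pow_two]; exact hA2 x hx
    refine ⟨a, b, hA2' _ a.2, hA2' _ b.2, ?_, ?_, ?_, ?_⟩
    · exact fun e => ha (Subtype.ext e)
    · exact fun e => hb1 (Subtype.ext e)
    · exact fun e => hab (Subtype.ext e.symm)
    · exact congrArg Subtype.val (hAc.is_comm.comm a b)
  haveI : (⊤ : Subgroup T).Normal := inferInstance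
  have hcyc : ∀ (g u w : T), u ∈ Subgroup.zpowers g → w ∈ Subgroup.zpowers g → u * u = 1 →
      w * w = 1 → u ≠ 1 → w ≠ 1 → u = w := fun g u w => cyc_unique
  rcases KleinGammaRank.structure_of_no_normal_four hT (⊤ : Subgroup T)
      (fun V hV _ h4 h2 => hno V hV h4 h2) with ⟨a, ha'⟩ | ⟨a, n, -, hAn, hao, hcos, hinv⟩
  · exact absurd (hcyc a a₀ b₀ (ha' ▸ Subgroup.mem_top _) (ha' ▸ Subgroup.mem_top _) ha hb ha1 hb1) hab
  -- an involution outside the cyclic subgroup
  obtain ⟨x, hx, hx1, hxA⟩ : ∃ x : T, x * x = 1 ∧ x ≠ 1 ∧ x ∉ Subgroup.zpowers a := by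
    by_contra! hcon
    exact hab (hcyc a a₀ b₀ (hcon a₀ ha ha1) (hcon b₀ hb hb1) ha hb ha1 hb1)
  set z := a ^ (2 ^ (n + 1)) with hz
  have hz1 : z ≠ 1 := fun e => by
    have := orderOf_dvd_of_pow_eq_one e
    rw [hao] at this
    have h2 : 2 ^ (n + 1) < 2 ^ (n + 2) := Nat.pow_lt_pow_right (by norm_num) (by omega)
    exact absurd (Nat.le_of_dvd (by positivity) this) (by omega)
  have hzz : z * z = 1 := by
    rw [hz, ← pow_add, ← two_mul, ← pow_succ', show n + 1 + 1 = n + 2 from rfl, ← hao, pow_orderOf_eq_one]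
  obtain ⟨r, hr⟩ := hAn.conj_mem a (Subgroup.mem_zpowers a) x
  simp only at hr
  have hr3 : (4 : ℤ) ∣ r + 1 := by
    have h := hinv x (Subgroup.mem_top x) hxA
    rw [← conj_pow, ← hr, ← zpow_natCast (a ^ r), ← zpow_mul, ← zpow_natCast a, ← zpow_neg] at h
    have h' : (orderOf a : ℤ) ∣ r * ((2 ^ n : ℕ) : ℤ) + ((2 ^ n : ℕ) : ℤ) := by
      rw [orderOf_dvd_iff_zpow_eq_one, zpow_add, h, zpow_neg, inv_mul_cancel]
    rw [hao] at h'
    push_cast at h'
    rw [pow_add, show r * 2 ^ n + 2 ^ n = 2 ^ n * (r + 1) by ring] at h'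
    exact (mul_dvd_mul_iff_left (pow_ne_zero n (by norm_num : (2 : ℤ) ≠ 0))).1 (by simpa using h')
  have hfix : ∀ i : ℤ, a ^ i * x = x * a ^ i → a ^ i = 1 ∨ a ^ i = z := by
    intro i hi
    have h1 : x * a ^ i * x⁻¹ = a ^ i := by rw [← hi, mul_inv_cancel_right]
    rw [← conj_zpow, ← hr, ← zpow_mul] at h1
    have h2 : (orderOf a : ℤ) ∣ r * i - i := by
      rw [orderOf_dvd_iff_zpow_eq_one, zpow_sub, h1, mul_inv_cancel]
    rw [hao] at h2
    push_cast at h2
    obtain ⟨c, hc⟩ := hr3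
    have h3 : (2 : ℤ) ^ (n + 1) ∣ i * (2 * c - 1) := by
      rw [pow_succ', show r * i - i = 2 * (i * (2 * c - 1)) by rw [show r = 4 * c - 1 by linarith]; ring] at h2
      exact (mul_dvd_mul_iff_left (by norm_num : (2 : ℤ) ≠ 0)).1 h2
    have h4 : (2 : ℤ) ^ (n + 1) ∣ i :=
      (IsCoprime.pow_left ⟨c, -1, by ring⟩).dvd_of_dvd_mul_right h3
    obtain ⟨k, rfl⟩ := h4
    rw [zpow_mul, show a ^ ((2 : ℤ) ^ (n + 1)) = z by rw [hz, ← zpow_natCast a (2 ^ (n + 1))]; push_cast; rfl]
    rcases Int.even_or_odd' k with ⟨l, rfl | rfl⟩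
    · left; rw [zpow_mul, zpow_two, hzz, one_zpow]
    · right; rw [zpow_add, zpow_mul, zpow_two, hzz, one_zpow, one_mul, zpow_one]
  have hzx : x * z = z * x := by
    have hmem : x * z * x⁻¹ ∈ Subgroup.zpowers a :=
      hAn.conj_mem _ (Subgroup.npow_mem_zpowers a _) x
    have h2 : x * z * x⁻¹ * (x * z * x⁻¹) = 1 := by
      rw [show x * z * x⁻¹ * (x * z * x⁻¹) = x * (z * z) * x⁻¹ by group, hzz, mul_one, mul_inv_cancel]
    have h := hcyc a _ z hmem (Subgroup.npow_mem_zpowers a _) h2 hzz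
      (fun e => hz1 (by
        have : x * z = x := by rw [mul_inv_eq_one] at e; exact e
        exact mul_eq_left.1 this)) hz1
    exact mul_inv_eq_iff_eq_mul.1 h
  refine maxClass_of_small hT hx hx1 hzz hz1 (fun e => hxA (e ▸ Subgroup.npow_mem_zpowers a _)) hzx fun w hw => ?_
  by_cases hwA : w ∈ Subgroup.zpowers a
  · obtain ⟨i, rfl⟩ := hwA
    rcases hfix i hw with h | h
    · exact Or.inl h
    · exact Or.inr (Or.inr (Or.inl h))
  · obtain ⟨i, hi⟩ := hcos x (Subgroup.mem_top x) hxA w (Subgroup.mem_top w) hwA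
    simp only at hi
    have hw' : w = x * a ^ i := by rw [hi, mul_inv_cancel_left]
    have hcom : a ^ i * x = x * a ^ i := by
      rw [hw', mul_assoc] at hw
      exact mul_left_cancel hw
    rcases hfix i hcom with h | h
    · exact Or.inr (Or.inl (by rw [hw', h, mul_one]))
    · exact Or.inr (Or.inr (Or.inr (by rw [hw', h])))

/-- An automorphism permuting three involutions cyclically is transitive on them. -/
theorem trans_of_cycle (φ : MulAut T) {a b c : T} (hab : φ a = b) (hbc : φ b = c) (hca : φ c = a)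
    (hinv : ∀ w : T, orderOf w = 2 → w = a ∨ w = b ∨ w = c) :
    ∀ s t : T, orderOf s = 2 → orderOf t = 2 → ∃ k : ℕ, (φ ^ k) s = t := by
  have h2 : ∀ x, (φ ^ 2) x = φ (φ x) := fun x => by rw [pow_two]; rfl
  intro s t hs ht
  rcases hinv s hs with rfl | rfl | rfl <;> rcases hinv t ht with rfl | rfl | rfl
  all_goals first
    | exact ⟨0, rfl⟩
    | exact ⟨1, by rw [pow_one]; assumption⟩
    | exact ⟨2, by simp only [h2, hab, hbc, hca]⟩

end Two

section Ambient

variable {G : Type u} [Group G] [Finite G]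

/-- Sylow's theorem inside the centralizer of an element central in `S`. -/
theorem exists_conj_le (S : Sylow 2 G) {z : G} (hz : ∀ s ∈ S, s * z = z * s) {K : Subgroup G}
    (hK : IsPGroup 2 K) (hKz : ∀ k ∈ K, k * z = z * k) :
    ∃ c : G, c * z = z * c ∧ ∀ k ∈ K, c * k * c⁻¹ ∈ S := by
  haveI : Fact (Nat.Prime 2) := ⟨Nat.prime_two⟩
  set H := Subgroup.centralizer ({z} : Set G) with hH
  have hSH : (S : Subgroup G) ≤ H := fun s hs => Subgroup.mem_centralizer_singleton_iff.2 (hz s hs)
  have hKH : K ≤ H := fun k hk => Subgroup.mem_centralizer_singleton_iff.2 (hKz k hk)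
  obtain ⟨P, hP⟩ := (hK.of_equiv (Subgroup.subgroupOfEquivOfLe hKH).symm).exists_le_sylow
  obtain ⟨c, hc⟩ := MulAction.exists_smul_eq H P (S.subtype hSH)
  refine ⟨c, Subgroup.mem_centralizer_singleton_iff.1 c.2, fun k hk => ?_⟩
  have hmem : MulAut.conj c ⟨k, hKH hk⟩ ∈ ((c • P : Sylow 2 H) : Subgroup H) := by
    rw [Sylow.coe_subgroup_smul]
    exact Subgroup.smul_mem_pointwise_smul _ _ _ (hP (Subgroup.mem_subgroupOf.2 hk))
  rw [hc] at hmem
  exact hmem

end Ambient

end Cfsg.Agent.RankTwoSylow
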