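import Cfsg.Agent.Lib.RankTwoSylow.Main

/-!
The cases: the four-group central, or of index two centralizer.
-/

set_option autoImplicit false
set_option linter.style.haveILetI false
set_option linter.unusedSectionVars false

namespace Cfsg.Agent.RankTwoSylow

universe u

/-- Some automorphism permutes the involutions transitively. -/
def TransAut (T : Type u) [Group T] : Prop :=
  ∃ φ : MulAut T, ∀ s t : T, orderOf s = 2 → orderOf t = 2 → ∃ k : ℕ, (φ ^ k) s = t

section Perm

variable {T : Type u} [Group T] [Finite T]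

/-- Three automorphisms moving the three involutions give a transitive one. -/
theorem transAut_of_moves {a b c : T} (hinv : ∀ w : T, orderOf w = 2 → w = a ∨ w = b ∨ w = c)
    (hab : a ≠ b) (hac : a ≠ c) (hbc : b ≠ c) (ha : orderOf a = 2) (hb : orderOf b = 2) (hc : orderOf c = 2)
    (hmove : ∀ w : T, orderOf w = 2 → ∃ f : MulAut T, f w ≠ w) : TransAut T := by
  have hperm : ∀ (f : MulAut T) {w : T}, orderOf w = 2 → f w = a ∨ f w = b ∨ f w = c := fun f w hw =>
    hinv _ (by rw [MulEquiv.orderOf_eq, hw])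
  -- a transposition and a mover of its fixed point
  have key : ∀ {p q r : T}, (∀ w : T, orderOf w = 2 → w = p ∨ w = q ∨ w = r) → orderOf p = 2 →
      orderOf q = 2 → orderOf r = 2 → p ≠ q → p ≠ r → q ≠ r →
      ∀ f g : MulAut T, f p = q → g r ≠ r → TransAut T := by
    intro p q r hi hp hq hr hpq hpr hqr f g hfp hgr
    have cls : ∀ (e : MulAut T) {w : T}, orderOf w = 2 → e w = p ∨ e w = q ∨ e w = r := fun e w hw =>
      hi _ (by rw [MulEquiv.orderOf_eq, hw])
    have hfq : f q = p ∨ f q = r := by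
      rcases cls f hq with h | h | h
      · exact Or.inl h
      · exact absurd (f.injective (h.trans hfp.symm)) hpq.symm
      · exact Or.inr h
    rcases hfq with hfq | hfq
    · have hfr : f r = r := by
        rcases cls f hr with h | h | h
        · exact absurd (f.injective (h.trans hfq.symm)) hqr.symm
        · exact absurd (f.injective (h.trans hfp.symm)) hpr.symm
        · exact h
      rcases cls g hr with hg | hg | hg
      · rcases cls g hp with h | h | h
        · exact absurd (g.injective (h.trans hg.symm)) hpr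
        · have hgq : g q = r := by
            rcases cls g hq with h' | h' | h'
            · exact absurd (g.injective (h'.trans hg.symm)) hqr
            · exact absurd (g.injective (h'.trans h.symm)) hpq.symm
            · exact h'
          exact ⟨g, trans_of_cycle g h hgq hg hi⟩
        · have hgq : g q = q := by
            rcases cls g hq with h' | h' | h'
            · exact absurd (g.injective (h'.trans hg.symm)) hqr
            · exact h'
            · exact absurd (g.injective (h'.trans h.symm)) hpq.symm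
          exact ⟨g * f, trans_of_cycle _ (show g (f p) = q by rw [hfp, hgq])
            (show g (f q) = r by rw [hfq, h]) (show g (f r) = p by rw [hfr, hg]) hi⟩
      · rcases cls g hq with h | h | h
        · have hgp : g p = r := by
            rcases cls g hp with h' | h' | h'
            · exact absurd (g.injective (h'.trans h.symm)) hpq
            · exact absurd (g.injective (h'.trans hg.symm)) hpr
            · exact h'
          exact ⟨g, trans_of_cycle g hgp hg h fun w hw => by
            rcases hi w hw with e | e | e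
            · exact Or.inl e
            · exact Or.inr (Or.inr e)
            · exact Or.inr (Or.inl e)⟩
        · exact absurd (g.injective (h.trans hg.symm)) hqr
        · have hgp : g p = p := by
            rcases cls g hp with h' | h' | h'
            · exact h'
            · exact absurd (g.injective (h'.trans hg.symm)) hpr
            · exact absurd (g.injective (h'.trans h.symm)) hpq
          exact ⟨g * f, trans_of_cycle _ (show g (f p) = r by rw [hfp, h])
            (show g (f r) = q by rw [hfr, hg]) (show g (f q) = p by rw [hfq, hgp]) fun w hw => by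
            rcases hi w hw with e | e | e
            · exact Or.inl e
            · exact Or.inr (Or.inr e)
            · exact Or.inr (Or.inl e)⟩
      · exact absurd hg hgr
    · have hfr : f r = p := by
        rcases cls f hr with h | h | h
        · exact h
        · exact absurd (f.injective (h.trans hfp.symm)) hpr.symm
        · exact absurd (f.injective (h.trans hfq.symm)) hqr.symm
      exact ⟨f, trans_of_cycle f hfp hfq hfr hi⟩
  obtain ⟨f, hf⟩ := hmove a ha
  rcases hperm f ha with h | h | h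
  · exact absurd h hf
  · obtain ⟨g, hg⟩ := hmove c hc
    exact key hinv ha hb hc hab hac hbc f g h hg
  · obtain ⟨g, hg⟩ := hmove b hb
    exact key (fun w hw => by
      rcases hinv w hw with e | e | e
      · exact Or.inl e
      · exact Or.inr (Or.inr e)
      · exact Or.inr (Or.inl e)) ha hc hb hac hab hbc.symm f g h hg

end Perm

section Wreath

variable {T : Type u} [Group T] [Finite T]

/-- A homocyclic subgroup of index two with two exchanged involutions gives a wreathed group. -/
theorem wreathed_of_homocyclic (C : Subgroup T) (hC : C.index = 2) {n : ℕ} (hn : 2 ≤ n)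
    (e : C ≃* Multiplicative (ZMod (2 ^ n) × ZMod (2 ^ n))) {v v' : T} (hv : v ∈ C) (hvv : v * v = 1)
    (hv1 : v ≠ 1) (hne : v' ≠ v) {s : T} (hs : s ∉ C) (hsv : s * v * s⁻¹ = v') : Cfsg.IsWreathed T := by
  classical
  haveI : NeZero (2 ^ n) := ⟨pow_ne_zero n two_ne_zero⟩
  haveI : C.Normal := Subgroup.normal_of_index_eq_two hC
  have hcomm : ∀ p ∈ C, ∀ q ∈ C, p * q = q * p := by
    intro p hp q hq
    have h : e (⟨p, hp⟩ * ⟨q, hq⟩) = e (⟨q, hq⟩ * ⟨p, hp⟩) := by rw [map_mul, map_mul, mul_comm]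
    exact congrArg Subtype.val (e.injective h)
  have hexp : ∀ p ∈ C, p ^ (2 ^ n) = 1 := by
    intro p hp
    have h : e (⟨p, hp⟩ ^ (2 ^ n)) = 1 := by
      rw [map_pow]
      apply Multiplicative.toAdd.injective
      rw [toAdd_pow, toAdd_one, nsmul_eq_mul]
      have hz0 : (((2 ^ n : ℕ)) : ZMod (2 ^ n)) = 0 := ZMod.natCast_self _
      refine Prod.ext ?_ ?_
      · rw [Prod.fst_mul, Prod.fst_natCast, hz0, zero_mul]; rfl
      · rw [Prod.snd_mul, Prod.snd_natCast, hz0, zero_mul]; rfl
    rw [map_eq_one_iff _ e.injective] at h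
    exact congrArg Subtype.val h
  -- a root of `v`
  obtain ⟨x, hxC, hxv⟩ : ∃ x ∈ C, x ^ (2 ^ (n - 1)) = v := by
    have h2 : Multiplicative.toAdd (e ⟨v, hv⟩) + Multiplicative.toAdd (e ⟨v, hv⟩) = 0 := by
      rw [← toAdd_mul, ← map_mul]
      rw [show (⟨v, hv⟩ : C) * ⟨v, hv⟩ = 1 from Subtype.ext hvv, map_one, toAdd_one]
    have hdiv : ∀ a : ZMod (2 ^ n), a + a = 0 → ∃ k : ℕ, a = ((2 ^ (n - 1) * k : ℕ) : ZMod (2 ^ n)) := by
      intro a ha
      have h : ((a.val + a.val : ℕ) : ZMod (2 ^ n)) = 0 := by push_cast; rw [ZMod.natCast_zmod_val, ha]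
      rw [ZMod.natCast_eq_zero_iff] at h
      obtain ⟨k, hk⟩ : 2 ^ (n - 1) ∣ a.val := by
        obtain ⟨c, hc⟩ := h
        refine ⟨c, ?_⟩
        have h2n : 2 ^ n = 2 * 2 ^ (n - 1) := by rw [← pow_succ']; congr 1; omega
        have hc' : a.val + a.val = 2 * (2 ^ (n - 1) * c) := by
          calc a.val + a.val = 2 ^ n * c := hc
            _ = 2 * (2 ^ (n - 1) * c) := by rw [← mul_assoc, ← h2n]
        omega
      exact ⟨k, by rw [← hk, ZMod.natCast_zmod_val]⟩
    obtain ⟨k₁, hk₁⟩ := hdiv _ (congrArg Prod.fst h2)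
    obtain ⟨k₂, hk₂⟩ := hdiv _ (congrArg Prod.snd h2)
    refine ⟨_, (e.symm (Multiplicative.ofAdd ((k₁ : ZMod (2 ^ n)), (k₂ : ZMod (2 ^ n))))).2, ?_⟩
    have h : (e.symm (Multiplicative.ofAdd ((k₁ : ZMod (2 ^ n)), (k₂ : ZMod (2 ^ n))))) ^ (2 ^ (n - 1)) = ⟨v, hv⟩ := by
      apply e.injective
      rw [map_pow, MulEquiv.apply_symm_apply]
      apply Multiplicative.toAdd.injective
      rw [toAdd_pow, toAdd_ofAdd, nsmul_eq_mul]
      refine Prod.ext ?_ ?_
      · rw [hk₁]; simp
      · rw [hk₂]; simp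
    exact congrArg Subtype.val h
  set y := s * x * s⁻¹ with hy
  have hyC : y ∈ C := (inferInstance : C.Normal).conj_mem x hxC s
  have hyv : y ^ (2 ^ (n - 1)) = v' := by rw [hy, conj_pow, hxv, hsv]
  haveI : Fact (Nat.Prime 2) := ⟨Nat.prime_two⟩
  have hordx : ∀ {p : T}, p ∈ C → p ^ (2 ^ (n - 1)) ≠ 1 → orderOf p = 2 ^ n := fun {p} hp h => by
    have h' := orderOf_eq_prime_pow (p := 2) (n := n - 1) (x := p) h (by
      rw [show n - 1 + 1 = n by omega]; exact hexp p hp)
    rwa [show n - 1 + 1 = n by omega] at h'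
  have hv'1 : v' ≠ 1 := fun h => hv1 (by
    rw [← hsv, mul_inv_eq_one] at h
    exact mul_eq_left.1 h)
  have hv'v : v' * v' = 1 := by
    rw [← hsv, show s * v * s⁻¹ * (s * v * s⁻¹) = s * (v * v) * s⁻¹ by group, hvv, mul_one, mul_inv_cancel]
  have ox : orderOf x = 2 ^ n := hordx hxC (hxv ▸ hv1)
  have oy : orderOf y = 2 ^ n := hordx hyC (hyv ▸ hv'1)
  have hdis : Subgroup.zpowers x ⊓ Subgroup.zpowers y = ⊥ := by
    by_contra hne'
    haveI : Nontrivial (Subgroup.zpowers x ⊓ Subgroup.zpowers y : Subgroup T) :=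
      (Subgroup.nontrivial_iff_ne_bot _).2 hne'
    have h2 : 2 ∣ Nat.card (Subgroup.zpowers x ⊓ Subgroup.zpowers y : Subgroup T) := by
      have hd : Nat.card (Subgroup.zpowers x ⊓ Subgroup.zpowers y : Subgroup T) ∣ 2 ^ n := by
        rw [← ox, ← Nat.card_zpowers]
        exact Subgroup.card_dvd_of_le inf_le_left
      obtain ⟨i, -, hi⟩ := (Nat.dvd_prime_pow Nat.prime_two).1 hd
      have := Finite.one_lt_card (α := (Subgroup.zpowers x ⊓ Subgroup.zpowers y : Subgroup T))
      rw [hi] at this ⊢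
      exact dvd_pow_self 2 (by rintro rfl; simp at this)
    obtain ⟨w, hw⟩ := exists_prime_orderOf_dvd_card' 2 h2
    have hw2 : (w : T) * w = 1 := by
      rw [← pow_two, ← hw, ← Subgroup.orderOf_coe, pow_orderOf_eq_one]
    have hw1 : (w : T) ≠ 1 := fun h => by
      rw [show w = 1 from Subtype.ext h, orderOf_one] at hw; omega
    have e1 := cyc_unique w.2.1 (hxv ▸ Subgroup.npow_mem_zpowers x _) hw2 hvv hw1 hv1
    have e2 := cyc_unique w.2.2 (hyv ▸ Subgroup.npow_mem_zpowers y _) hw2 hv'v hw1 hv'1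
    exact hne (e2.symm.trans e1)
  have hxy : x * y = y * x := hcomm x hxC y hyC
  have hcardC : Nat.card C = 2 ^ n * 2 ^ n := by
    rw [Nat.card_congr e.toEquiv, Nat.card_congr (Multiplicative.toAdd), Nat.card_prod, Nat.card_zmod]
  -- generation
  have hgen : ∀ w ∈ C, ∃ a b : ℤ, w = x ^ a * y ^ b := by
    let F : Subgroup.zpowers x × Subgroup.zpowers y → C := fun pq =>
      ⟨(pq.1 : T) * pq.2, C.mul_mem (Subgroup.zpowers_le.2 hxC pq.1.2) (Subgroup.zpowers_le.2 hyC pq.2.2)⟩
    have hF : Function.Injective F := by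
      rintro ⟨⟨p, hp⟩, ⟨q, hq⟩⟩ ⟨⟨p', hp'⟩, ⟨q', hq'⟩⟩ h
      have h' : p * q = p' * q' := congrArg Subtype.val h
      have h1 : p'⁻¹ * p = q' * q⁻¹ := by
        calc p'⁻¹ * p = p'⁻¹ * (p * q) * q⁻¹ := by group
          _ = q' * q⁻¹ := by rw [h']; group
      have h2 : p'⁻¹ * p ∈ Subgroup.zpowers x ⊓ Subgroup.zpowers y :=
        ⟨(Subgroup.zpowers x).mul_mem ((Subgroup.zpowers x).inv_mem hp') hp,
          h1 ▸ (Subgroup.zpowers y).mul_mem hq' ((Subgroup.zpowers y).inv_mem hq)⟩
      rw [hdis, Subgroup.mem_bot] at h2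
      have e1 : p = p' := by rw [← mul_right_inj (p'⁻¹), h2, inv_mul_cancel]
      subst e1
      rw [mul_right_inj] at h'
      subst h'
      rfl
    have hbij := hF.bijective_of_nat_card_le (by
      rw [Nat.card_prod, Nat.card_zpowers, Nat.card_zpowers, ox, oy, hcardC])
    intro w hw
    obtain ⟨⟨⟨p, a, rfl⟩, ⟨q, b, rfl⟩⟩, hpq⟩ := hbij.2 ⟨w, hw⟩
    exact ⟨a, b, (congrArg Subtype.val hpq).symm⟩
  have hss : s * s ∈ C := Subgroup.mul_self_mem_of_index_two hC s
  have hsy : s * y * s⁻¹ = x := by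
    rw [hy, show s * (s * x * s⁻¹) * s⁻¹ = s * s * x * (s * s)⁻¹ by group, hcomm _ hss _ hxC,
      mul_inv_cancel_right]
  obtain ⟨a, b, hab⟩ := hgen _ hss
  have hfix : x ^ a * y ^ b = y ^ a * x ^ b := by
    have : s * (x ^ a * y ^ b) * s⁻¹ = y ^ a * x ^ b := by
      rw [show s * (x ^ a * y ^ b) * s⁻¹ = (s * x ^ a * s⁻¹) * (s * y ^ b * s⁻¹) by group, ← conj_zpow,
        ← conj_zpow, ← hy, hsy]
    rw [← hab, show s * (s * s) * s⁻¹ = s * s by group] at this
    rw [← hab]; exact this
  have hxa : x ^ (a - b) = 1 := by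
    have h1 : x ^ (a - b) = y ^ (a - b) := by
      have hc : ∀ i j : ℤ, y ^ i * x ^ j = x ^ j * y ^ i := fun i j =>
        ((show Commute x y from hxy).zpow_zpow j i).symm.eq
      rw [hc] at hfix
      rw [zpow_sub, zpow_sub]
      calc x ^ a * (x ^ b)⁻¹ = (x ^ b)⁻¹ * (x ^ a * y ^ b) * (y ^ b)⁻¹ := by
            rw [mul_assoc, mul_assoc, mul_inv_cancel, mul_one]
            exact ((Commute.refl x).zpow_zpow b a).inv_left.eq.symm
        _ = y ^ a * (y ^ b)⁻¹ := by rw [hfix]; group
    have h2 : x ^ (a - b) ∈ Subgroup.zpowers x ⊓ Subgroup.zpowers y :=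
      ⟨Subgroup.zpow_mem_zpowers x _, h1 ▸ Subgroup.zpow_mem_zpowers y _⟩
    rwa [hdis, Subgroup.mem_bot] at h2
  have hyb : y ^ b = y ^ a := by
    have h : y ^ (a - b) = 1 := by rw [hy, conj_zpow, hxa, mul_one, mul_inv_cancel]
    rw [zpow_sub, mul_inv_eq_one] at h
    exact h.symm
  refine ⟨n, hn, ?_, x, y, (x ^ a)⁻¹ * s, ox, hxy, hdis, ?_, ?_⟩
  · rw [← C.card_mul_index, hC, hcardC, pow_succ, ← pow_add, two_mul]
  · refine orderOf_eq_prime ?_ ?_
    · rw [pow_two]
      calc (x ^ a)⁻¹ * s * ((x ^ a)⁻¹ * s) = (x ^ a)⁻¹ * (s * (x ^ a)⁻¹ * s⁻¹) * (s * s) := by group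
        _ = (x ^ a)⁻¹ * (y ^ a)⁻¹ * (x ^ a * y ^ a) := by
          rw [hab, hyb, show s * (x ^ a)⁻¹ * s⁻¹ = (y ^ a)⁻¹ by rw [hy, conj_zpow]; group]
        _ = 1 := by
          rw [← mul_inv_rev, ← ((show Commute x y from hxy).zpow_zpow a a).eq, inv_mul_cancel]
    · intro h
      exact hs (by rw [← inv_mul_eq_one.1 h]; exact C.zpow_mem hxC a)
  · rw [mul_inv_rev, inv_inv, show (x ^ a)⁻¹ * s * x * (s⁻¹ * x ^ a) = (x ^ a)⁻¹ * (s * x * s⁻¹) * x ^ a by group,
      ← hy, mul_assoc, ← ((show Commute x y from hxy).zpow_left a).eq, inv_mul_cancel_left]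

end Wreath

end Cfsg.Agent.RankTwoSylow
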