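import Cfsg.Agent.Lib.RankTwoSylow.Cases

/-!
Assembly: the shape of a Sylow 2-subgroup of a group of rank two without isolated involutions.
-/

set_option autoImplicit false
set_option linter.style.haveILetI false
set_option linter.unusedSectionVars false
set_option maxHeartbeats 1000000

namespace Cfsg.Agent.RankTwoSylow

universe u

variable {G : Type u} [Group G] [Finite G]

theorem rank_sub (h2 : Cfsg.PRankLE 2 2 G) (H : Subgroup G) : Cfsg.PRankLE 2 2 H := by
  intro A hA hA2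
  have h := h2 (A.map H.subtype) ?_ ?_
  · rwa [← Nat.card_congr (Subgroup.equivMapOfInjective A H.subtype H.subtype_injective).toEquiv] at h
  · refine ⟨⟨?_⟩⟩
    rintro ⟨_, a, ha, rfl⟩ ⟨_, b, hb, rfl⟩
    have h : a * b = b * a := congrArg Subtype.val (hA.is_comm.comm ⟨a, ha⟩ ⟨b, hb⟩)
    refine Subtype.ext ?_
    show H.subtype a * H.subtype b = H.subtype b * H.subtype a
    rw [← map_mul, h, map_mul]
  · rintro _ ⟨a, ha, rfl⟩
    rw [← map_pow, hA2 a ha, map_one]

theorem rank_sylow (h1 : ¬ Cfsg.PRankLE 2 1 G) (S : Sylow 2 G) : ¬ Cfsg.PRankLE 2 1 (S : Subgroup G) := by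
  haveI : Fact (Nat.Prime 2) := ⟨Nat.prime_two⟩
  intro hS
  refine h1 fun A hA hA2 => ?_
  have hAp : IsPGroup 2 A := fun a => ⟨1, Subtype.ext (by rw [pow_one]; exact hA2 a a.2)⟩
  obtain ⟨P, hP⟩ := hAp.exists_le_sylow
  obtain ⟨g, hg⟩ := MulAction.exists_smul_eq G P S
  let A' : Subgroup G := A.map (MulAut.conj g).toMonoidHom
  have hA' : A' ≤ (S : Subgroup G) := by
    rintro _ ⟨a, ha, rfl⟩
    rw [← hg, Sylow.coe_subgroup_smul]
    exact Subgroup.smul_mem_pointwise_smul _ _ _ (hP ha)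
  have h := hS (A'.subgroupOf (S : Subgroup G)) ?_ ?_
  · rwa [Nat.card_congr (Subgroup.subgroupOfEquivOfLe hA').toEquiv,
      ← Nat.card_congr (Subgroup.equivMapOfInjective A _ (MulAut.conj g).injective).toEquiv] at h
  · refine ⟨⟨?_⟩⟩
    rintro ⟨⟨x, hx⟩, hx'⟩ ⟨⟨y, hy⟩, hy'⟩
    obtain ⟨a, ha, rfl⟩ := Subgroup.mem_subgroupOf.1 hx'
    obtain ⟨b, hb, rfl⟩ := Subgroup.mem_subgroupOf.1 hy'
    have h : a * b = b * a := congrArg Subtype.val (hA.is_comm.comm ⟨a, ha⟩ ⟨b, hb⟩)
    refine Subtype.ext (Subtype.ext ?_)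
    show MulAut.conj g a * MulAut.conj g b = MulAut.conj g b * MulAut.conj g a
    rw [← map_mul, h, map_mul]
  · rintro ⟨x, hx⟩ hx'
    obtain ⟨a, ha, rfl⟩ := Subgroup.mem_subgroupOf.1 hx'
    refine Subtype.ext ?_
    show (MulAut.conj g a) ^ 2 = 1
    rw [← map_pow, hA2 a ha, map_one]

/-- A 2-element with square different from one has a power whose square is an involution. -/
theorem exists_root {T : Type u} [Group T] (hT : IsPGroup 2 T) {r : T} (hr : r * r ≠ 1) :
    ∃ k : ℕ, r ^ k * r ^ k ≠ 1 ∧ r ^ k * r ^ k * (r ^ k * r ^ k) = 1 := by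
  classical
  obtain ⟨m, hm⟩ := hT r
  have hex : ∃ j : ℕ, r ^ 2 ^ j = 1 := ⟨m, hm⟩
  have h := Nat.find_spec hex
  set j := Nat.find hex with hj
  have hj2 : 2 ≤ j := by
    by_contra hlt
    apply hr
    rw [← pow_two]
    interval_cases j
    · rw [pow_zero, pow_one] at h; rw [h, one_pow]
    · simpa using h
  refine ⟨2 ^ (j - 2), ?_, ?_⟩
  · rw [← pow_add, ← two_mul, ← pow_succ']
    exact Nat.find_min hex (show j - 2 + 1 < Nat.find hex by omega)
  · rw [← pow_add, ← two_mul, ← pow_succ', ← pow_add, ← two_mul, ← pow_succ',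
      show j - 2 + 1 + 1 = j by omega]
    exact h

theorem sq_one_bits : ∀ b : Multiplicative (ZMod (2 ^ 1) × ZMod (2 ^ 1)), b * b = 1 := by decide

/-- The shape of a Sylow 2-subgroup. -/
theorem sylow_shape (h2 : Cfsg.PRankLE 2 2 G) (h1 : ¬ Cfsg.PRankLE 2 1 G)
    (hiso : ∀ z : G, ¬ Cfsg.IsIsolatedInvolution z) (S : Sylow 2 G) :
    MaxClass (S : Subgroup G) ∨ Cfsg.IsWreathed (S : Subgroup G) ∨ TransAut (S : Subgroup G) := by
  classical
  haveI : Fact (Nat.Prime 2) := ⟨Nat.prime_two⟩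
  set T := (S : Subgroup G) with hTdef
  have hT : IsPGroup 2 T := S.isPGroup'
  have hr2 : Cfsg.PRankLE 2 2 T := rank_sub h2 T
  have hr1 : ¬ Cfsg.PRankLE 2 1 T := rank_sylow h1 S
  by_cases hV : ∃ V : Subgroup T, V.Normal ∧ Nat.card V = 4 ∧ ∀ v ∈ V, v * v = 1
  swap
  · exact Or.inl (maxClass_of_no_normal_four hT hr1 fun V hn h4 h2' => hV ⟨V, hn, h4, h2'⟩)
  obtain ⟨V, hVn, hV4, hV2⟩ := hV
  haveI := hVn
  obtain ⟨z, hzV, hzo, hzc⟩ := NormalFour.exists_central_mem hT (N := V) (fun e => by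
    rw [e, Subgroup.card_bot] at hV4; omega)
  have hz2 : z * z = 1 := hV2 z hzV
  have hz1 : z ≠ 1 := fun e => by rw [e, orderOf_one] at hzo; omega
  have hzc' : ∀ w : T, w * z = z * w := Subgroup.mem_center_iff.1 hzc
  obtain ⟨v, hvV, hv1, hvz⟩ : ∃ v ∈ V, v ≠ 1 ∧ v ≠ z := by
    by_contra! hcon
    have hsub : ∀ w : V, w = 1 ∨ w = ⟨z, hzV⟩ := fun w => or_iff_not_imp_left.2 fun h =>
      Subtype.ext (hcon w w.2 fun e => h (Subtype.ext e))
    have := Nat.card_le_card_of_surjective (fun i : Fin 2 => if i = 0 then (1 : V) else ⟨z, hzV⟩) fun w => by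
      rcases hsub w with h | h
      · exact ⟨0, by simp [h]⟩
      · exact ⟨1, by simp [h]⟩
    rw [hV4] at this
    simp at this
  have hv2 : v * v = 1 := hV2 v hvV
  have hzv : z * v ∈ V := V.mul_mem hzV hvV
  have hzv2 : z * v * (z * v) = 1 := hV2 _ hzv
  have hzv1 : z * v ≠ 1 := fun e => hvz ((inv_eq_of_mul_eq_one_right e).symm.trans
    (inv_eq_of_mul_eq_one_right hz2))
  have hzvz : z * v ≠ z := fun e => hv1 (mul_eq_left.1 e)
  have hzvv : z * v ≠ v := fun e => hz1 (mul_eq_right.1 e)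
  -- commuting involutions lie in the four-group
  have inV : ∀ w : T, w * w = 1 → w * v = v * w → w = 1 ∨ w = z ∨ w = v ∨ w = z * v := fun w hw hwv =>
    third hr2 hz2 hv2 hw hz1 hv1 hvz.symm (hzc' v).symm (hzc' w).symm hwv.symm
  have inV' : ∀ w : T, orderOf w = 2 → w * v = v * w → w = z ∨ w = v ∨ w = z * v := fun w hw hwv =>
    (inV w (by rw [← pow_two, ← hw, pow_orderOf_eq_one]) hwv).resolve_left fun e => by
      rw [e, orderOf_one] at hw; omega
  -- a conjugate in `S` of a central involution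
  have fused : ∀ x : T, (∀ w : T, w * x = x * w) → orderOf x = 2 → ∃ (g : G) (w : T), w ≠ x ∧
      g * (x : G) * g⁻¹ = (w : G) := by
    intro x hxc hxo
    have hxG : orderOf (x : G) = 2 := by rw [Subgroup.orderOf_coe, hxo]
    have hni : ¬ ∀ g : G, Commute (x : G) (g * x * g⁻¹) → g * x * g⁻¹ = x := fun h => hiso x ⟨hxG, h⟩
    push Not at hni
    obtain ⟨g, hcg, hne⟩ := hni
    have hy2 : (g * x * g⁻¹) * (g * x * g⁻¹) = 1 := by
      rw [show g * (x : G) * g⁻¹ * (g * x * g⁻¹) = g * ((x : G) * x) * g⁻¹ by group, ← pow_two, ← hxG,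
        pow_orderOf_eq_one, mul_one, mul_inv_cancel]
    obtain ⟨c, hcx, hcS⟩ := exists_conj_le S (z := (x : G))
      (fun s hs => congrArg Subtype.val (hxc ⟨s, hs⟩)) (K := Subgroup.zpowers (g * x * g⁻¹))
      (IsPGroup.of_card (n := 1) (by
        rw [Nat.card_zpowers, pow_one]
        exact orderOf_eq_prime (by rw [pow_two]; exact hy2) (fun e => by
          have : (x : G) = 1 := by simpa using e
          rw [this, orderOf_one] at hxG; omega)))
      (fun k hk => by
        obtain ⟨i, rfl⟩ := Subgroup.mem_zpowers_iff.1 hk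
        exact (hcg.symm.zpow_left i).eq)
    refine ⟨c * g, ⟨_, hcS _ (Subgroup.mem_zpowers _)⟩, fun e => hne ?_, by simp [mul_assoc]⟩
    have h : c * (g * x * g⁻¹) * c⁻¹ = (x : G) := congrArg Subtype.val e
    calc g * x * g⁻¹ = c⁻¹ * (c * (g * x * g⁻¹) * c⁻¹) * c := by group
      _ = x := by rw [h, mul_assoc, ← hcx, inv_mul_cancel_left]
  by_cases hvc : ∀ w : T, w * v = v * w
  · -- the four-group is central
    refine Or.inr (Or.inr ?_)
    have hzvc : ∀ w : T, w * (z * v) = z * v * w := fun w => by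
      rw [← mul_assoc, hzc' w, mul_assoc, hvc w, mul_assoc]
    have hall : ∀ w : T, orderOf w = 2 → w = z ∨ w = v ∨ w = z * v := fun w hw => inV' w hw (hvc w)
    have hcen : ∀ w : T, orderOf w = 2 → ∀ u : T, u * w = w * u := by
      intro w hw
      rcases hall w hw with e | e | e <;> rw [e]
      · exact hzc'
      · exact hvc
      · exact hzvc
    refine transAut_of_moves hall hvz.symm hzvz.symm hzvv.symm hzo (ord_two hv2 hv1) (ord_two hzv2 hzv1)
      fun x hxo => ?_
    obtain ⟨g, w, hwx, hg⟩ := fused x (hcen x hxo) hxo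
    have hwo : orderOf w = 2 := by
      rw [← Subgroup.orderOf_coe, ← hg, ← MulAut.conj_apply, MulEquiv.orderOf_eq, Subgroup.orderOf_coe, hxo]
    obtain ⟨n, hn, hnx⟩ := Fusion.conj_normalizer_of_conj S {(x : G)} {(w : G)}
      (fun s hs => by
        rw [Set.image_singleton, show s * (x : G) = x * s from congrArg Subtype.val (hcen x hxo ⟨s, hs⟩),
          mul_inv_cancel_right])
      (fun s hs => by
        rw [Set.image_singleton, show s * (w : G) = w * s from congrArg Subtype.val (hcen w hwo ⟨s, hs⟩),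
          mul_inv_cancel_right])
      g (by rw [Set.image_singleton, hg])
    rw [Set.image_singleton, Set.singleton_eq_singleton_iff] at hnx
    refine ⟨Subgroup.normalizerMonoidHom (S : Subgroup G) ⟨n, hn⟩, fun e => hwx (Subtype.ext ?_)⟩
    rw [← hnx]
    exact congrArg Subtype.val e
  -- the centralizer of the four-group has index two
  push Not at hvc
  obtain ⟨s, hsv⟩ := hvc
  have hconj : ∀ w : T, w * v ≠ v * w → w * v * w⁻¹ = z * v := by
    intro w hw
    have hmem : w * v * w⁻¹ ∈ V := hVn.conj_mem v hvV w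
    rcases third hr2 hz2 hv2 (hV2 _ hmem) hz1 hv1 hvz.symm (hzc' v).symm (hzc' _).symm
      (by
        have h := hV2 _ (V.mul_mem hvV hmem)
        have e1 : (v * (w * v * w⁻¹))⁻¹ = v * (w * v * w⁻¹) := inv_eq_of_mul_eq_one_right h
        rw [mul_inv_rev, inv_eq_of_mul_eq_one_right hv2, inv_eq_of_mul_eq_one_right (hV2 _ hmem)] at e1
        exact e1.symm) with e | e | e | e
    · exact absurd (by rw [mul_inv_eq_one, mul_eq_left] at e; exact e) hv1
    · exfalso
      refine hvz ?_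
      calc v = w⁻¹ * (w * v * w⁻¹) * w := by group
        _ = z := by rw [e, mul_assoc, ← hzc' w, inv_mul_cancel_left]
    · exact absurd (mul_inv_eq_iff_eq_mul.1 e) hw
    · exact e
  have hsz : s * v * s⁻¹ = z * v := hconj s hsv
  set C := Subgroup.centralizer ({v} : Set T) with hC
  have hmemC : ∀ {w : T}, w ∈ C ↔ w * v = v * w := Subgroup.mem_centralizer_singleton_iff
  have hsC : s ∉ C := fun h => hsv (hmemC.1 h)
  have hszv : s * (z * v) * s⁻¹ = v := by
    rw [show s * (z * v) * s⁻¹ = s * z * s⁻¹ * (s * v * s⁻¹) by group, hsz, hzc' s, mul_inv_cancel_right,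
      ← mul_assoc, hz2, one_mul]
  have hCidx : C.index = 2 := by
    rw [Subgroup.index_eq_two_iff]
    refine ⟨s, fun b => ?_⟩
    by_cases hb : b ∈ C
    · exact Or.inr ⟨hb, fun h => hsC (by simpa using C.mul_mem (C.inv_mem hb) h)⟩
    · refine Or.inl ⟨hmemC.2 ?_, hb⟩
      have hb' := hconj b fun h => hb (hmemC.2 h)
      have : b * s * v * (b * s)⁻¹ = v := by
        rw [show b * s * v * (b * s)⁻¹ = b * (s * v * s⁻¹) * b⁻¹ by group, hsz,
          show b * (z * v) * b⁻¹ = b * z * b⁻¹ * (b * v * b⁻¹) by group, hb', hzc' b, mul_inv_cancel_right,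
          ← mul_assoc, hz2, one_mul]
      exact mul_inv_eq_iff_eq_mul.1 this
  haveI : C.Normal := Subgroup.normal_of_index_eq_two hCidx
  have hsq : ∀ w : T, w * w ∈ C := Subgroup.mul_self_mem_of_index_two hCidx
  have hzC : z ∈ C := hmemC.2 (hzc' v).symm
  have hvC : v ∈ C := hmemC.2 rfl
  have hzvC : z * v ∈ C := C.mul_mem hzC hvC
  -- small centralizer of an involution outside
  have hsmallC : (∀ w ∈ C, w * w = 1) → MaxClass T := fun h =>
    maxClass_of_small hT hv2 hv1 hz2 hz1 hvz (hzc' v) fun w hw => by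
      rcases inV w (h w (hmemC.2 hw)) hw with e | e | e | e
      · exact Or.inl e
      · exact Or.inr (Or.inr (Or.inl e))
      · exact Or.inr (Or.inl e)
      · exact Or.inr (Or.inr (Or.inr (e.trans (hzc' v).symm)))
  have houter : ∀ t : T, t ∉ C → ∀ w ∈ C, w * w = 1 → w * t = t * w → w = 1 ∨ w = z := by
    intro t ht w hwC hw hwt
    have hnv : t * v ≠ v * t := fun h => ht (hmemC.2 h)
    rcases inV w hw (hmemC.1 hwC) with e | e | e | e
    · exact Or.inl e
    · exact Or.inr e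
    · exact absurd (e ▸ hwt.symm) hnv
    · exfalso
      rw [e] at hwt
      refine hnv (mul_left_cancel (a := z) ?_)
      rw [← mul_assoc, ← hzc' t, mul_assoc, ← hwt, mul_assoc]
  -- the centre involution is fused to `v`
  obtain hdone | ⟨g₀, hg₀⟩ : MaxClass T ∨ ∃ g : G, g * (v : G) * g⁻¹ = (z : G) := by
    obtain ⟨g, w, hwz, hg⟩ := fused z hzc' hzo
    have hwo : orderOf w = 2 := by
      rw [← Subgroup.orderOf_coe, ← hg, ← MulAut.conj_apply, MulEquiv.orderOf_eq, Subgroup.orderOf_coe, hzo]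
    have htov : ∀ (g : G) (w : T), g * (z : G) * g⁻¹ = (w : G) → (w = v ∨ w = z * v) →
        ∃ g : G, g * (v : G) * g⁻¹ = (z : G) := by
      intro g w hg hwv
      rcases hwv with rfl | rfl
      · exact ⟨g⁻¹, by rw [← hg]; group⟩
      · refine ⟨g⁻¹ * (s : G), ?_⟩
        have h := congrArg Subtype.val hsz
        simp only [Subgroup.coe_mul, Subgroup.coe_inv] at h hg
        rw [show g⁻¹ * (s : G) * v * (g⁻¹ * s)⁻¹ = g⁻¹ * ((s : G) * v * (s : G)⁻¹) * g by group, h, ← hg]
        group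
    by_cases hwC : w ∈ C
    · rcases inV' w hwo (hmemC.1 hwC) with e | e | e
      · exact absurd e hwz
      · exact Or.inr (htov g w hg (Or.inl e))
      · exact Or.inr (htov g w hg (Or.inr e))
    have hw2 : w * w = 1 := by rw [← pow_two, ← hwo, pow_orderOf_eq_one]
    by_cases hex : ∃ r ∈ C, r * w = w * r ∧ r * r ≠ 1
    · obtain ⟨r, hrC, hrw, hrr⟩ := hex
      obtain ⟨k, hk1, hk2⟩ := exists_root hT hrr
      have hyw : r ^ k * w = w * r ^ k := ((show Commute r w from hrw).pow_left k).eq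
      have hy2w : r ^ k * r ^ k * w = w * (r ^ k * r ^ k) :=
        ((show Commute (r ^ k) w from hyw).mul_left hyw).eq
      have hyz : r ^ k * r ^ k = z :=
        (houter w hwC _ (hsq _) hk2 hy2w).resolve_left hk1
      -- move the centralizer of `w` into `S`
      obtain ⟨c, hcz, hcS⟩ := exists_conj_le S (z := (z : G))
        (fun u hu => congrArg Subtype.val (hzc' ⟨u, hu⟩))
        (K := ((Subgroup.centralizer ({w} : Set T)).map T.subtype).map (MulAut.conj g⁻¹).toMonoidHom)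
        (((hT.to_subgroup _).map _).map _) (by
          rintro _ ⟨_, ⟨u, hu, rfl⟩, rfl⟩
          have h : (u : G) * w = w * u := congrArg Subtype.val (Subgroup.mem_centralizer_singleton_iff.1 hu)
          show g⁻¹ * (u : G) * g⁻¹⁻¹ * z = z * (g⁻¹ * u * g⁻¹⁻¹)
          rw [show g⁻¹ * (u : G) * g⁻¹⁻¹ * z = g⁻¹ * (u * (g * z * g⁻¹)) * g by group, hg, h, ← hg]
          group)
      have himg : ∀ u : T, u * w = w * u → c * (g⁻¹ * (u : G) * g) * c⁻¹ ∈ S := fun u hu => by
        have := hcS _ ⟨_, ⟨u, Subgroup.mem_centralizer_singleton_iff.2 hu, rfl⟩, rfl⟩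
        simpa using this
      refine Or.inr ?_
      set y' : T := ⟨_, himg _ hyw⟩ with hy'
      have hy'z : ((y' * y' : T) : G) = c * g⁻¹ * (z : G) * (c * g⁻¹)⁻¹ := by
        have h := congrArg Subtype.val hyz
        simp only [Subgroup.coe_mul] at h
        show c * (g⁻¹ * ((r ^ k : T) : G) * g) * c⁻¹ * (c * (g⁻¹ * ((r ^ k : T) : G) * g) * c⁻¹) = _
        rw [← h]
        group
      have hy'o : orderOf (y' * y') = 2 := by
        rw [← Subgroup.orderOf_coe, hy'z, ← MulAut.conj_apply, MulEquiv.orderOf_eq, Subgroup.orderOf_coe, hzo]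
      refine htov (c * g⁻¹) (y' * y') hy'z.symm ?_
      rcases inV' _ hy'o (hmemC.1 (hsq y')) with e | e | e
      · exfalso
        rw [e] at hy'z
        apply hwz
        refine Subtype.ext ?_
        calc (w : G) = g * z * g⁻¹ := hg.symm
          _ = g * (c⁻¹ * z * c) * g⁻¹ := by rw [mul_assoc c⁻¹, ← hcz, inv_mul_cancel_left]
          _ = g * (c⁻¹ * (c * g⁻¹ * z * (c * g⁻¹)⁻¹) * c) * g⁻¹ := by rw [← hy'z]
          _ = z := by group
      · exact Or.inl e
      · exact Or.inr e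
    · push Not at hex
      refine Or.inl (maxClass_of_small hT hw2 (fun e => by rw [e, orderOf_one] at hwo; omega) hz2 hz1
        hwz (hzc' w) fun u hu => ?_)
      by_cases huC : u ∈ C
      · rcases houter w hwC u huC (hex u huC hu) hu with e | e
        · exact Or.inl e
        · exact Or.inr (Or.inr (Or.inl e))
      · have hm : w * u ∈ C := (Subgroup.mul_mem_iff_of_index_two hCidx).2 (iff_of_false hwC huC)
        have hc : w * u * w = w * (w * u) := by rw [mul_assoc, hu]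
        rcases houter w hwC _ hm (hex _ hm hc) hc with e | e
        · exact Or.inr (Or.inl ((inv_eq_of_mul_eq_one_right e).symm.trans (inv_eq_of_mul_eq_one_right hw2)))
        · refine Or.inr (Or.inr (Or.inr ?_))
          rw [← e, ← mul_assoc, hw2, one_mul]
  · exact Or.inl hdone
  -- the fusing element normalizes the centralizer
  obtain ⟨c, hcz, hcS⟩ := exists_conj_le S (z := (z : G))
    (fun u hu => congrArg Subtype.val (hzc' ⟨u, hu⟩))
    (K := (C.map T.subtype).map (MulAut.conj g₀).toMonoidHom) (((hT.to_subgroup _).map _).map _) (by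
      rintro _ ⟨_, ⟨u, hu, rfl⟩, rfl⟩
      have h : (u : G) * v = v * u := congrArg Subtype.val (hmemC.1 hu)
      show g₀ * (u : G) * g₀⁻¹ * z = z * (g₀ * u * g₀⁻¹)
      rw [← hg₀, show g₀ * (u : G) * g₀⁻¹ * (g₀ * v * g₀⁻¹) = g₀ * (u * v) * g₀⁻¹ by group, h]
      group)
  set hh := c * g₀ with hhdef
  have hhS : ∀ u ∈ C, hh * (u : G) * hh⁻¹ ∈ S := fun u hu => by
    have := hcS _ ⟨_, ⟨u, hu, rfl⟩, rfl⟩
    simpa [hhdef, mul_assoc] using this
  have hhv : hh * (v : G) * hh⁻¹ = (z : G) := by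
    rw [hhdef, show c * g₀ * (v : G) * (c * g₀)⁻¹ = c * (g₀ * v * g₀⁻¹) * c⁻¹ by group, hg₀, hcz,
      mul_inv_cancel_right]
  let f : C →* T :=
    { toFun := fun u => ⟨_, hhS u u.2⟩
      map_one' := Subtype.ext (by simp)
      map_mul' := fun a b => Subtype.ext (by simp) }
  have hfinj : Function.Injective f := fun a b h => by
    have h' : hh * ((a : T) : G) * hh⁻¹ = hh * ((b : T) : G) * hh⁻¹ := congrArg Subtype.val h
    rw [mul_left_inj, mul_right_inj] at h'
    exact Subtype.ext (Subtype.ext h')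
  have hfv : f ⟨v, hvC⟩ = z := Subtype.ext hhv
  set e := f ⟨z, hzC⟩ with he
  have heo : orderOf e = 2 := by
    rw [he, orderOf_injective f hfinj, ← Subgroup.orderOf_coe]
    exact hzo
  have hez : e ≠ z := fun h => hvz (congrArg Subtype.val (hfinj (hfv.trans h.symm)))
  have hecomm : ∀ u : C, f u * e = e * f u := fun u => by
    rw [he, ← map_mul, ← map_mul]
    congr 1
    exact Subtype.ext (hzc' u)
  by_cases heC : e ∈ C
  swap
  · refine Or.inl (hsmallC fun u hu => ?_)
    by_contra hu2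
    obtain ⟨k, hk1, hk2⟩ := exists_root hT hu2
    have key : ∀ y ∈ C, y * y * (y * y) = 1 → y * y ≠ 1 → y * y = v := by
      intro y hy h4 h1'
      have h4' : f (⟨y, hy⟩ * ⟨y, hy⟩) * f (⟨y, hy⟩ * ⟨y, hy⟩) = 1 := by
        rw [← map_mul, show (⟨y, hy⟩ : C) * ⟨y, hy⟩ * (⟨y, hy⟩ * ⟨y, hy⟩) = 1 from Subtype.ext h4, map_one]
      rcases houter e heC _ (map_mul f ⟨y, hy⟩ ⟨y, hy⟩ ▸ hsq _) h4' (hecomm _) with h | h
      · exact absurd (congrArg Subtype.val ((map_eq_one_iff f hfinj).1 h)) h1'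
      · exact congrArg Subtype.val (hfinj (h.trans hfv.symm))
    have hy := key _ (C.pow_mem hu k) hk2 hk1
    have hy' : s * u ^ k * s⁻¹ * (s * u ^ k * s⁻¹) = z * v := by
      rw [show s * u ^ k * s⁻¹ * (s * u ^ k * s⁻¹) = s * (u ^ k * u ^ k) * s⁻¹ by group, hy, hsz]
    exact hzvv (hy'.symm.trans (key _ ((inferInstance : C.Normal).conj_mem _ (C.pow_mem hu k) s)
      (by rw [hy', hzv2]) (by rw [hy']; exact hzv1)))
  have hev : e = v ∨ e = z * v :=
    (inV' e heo (hmemC.1 heC)).resolve_left hez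
  have hfC : ∀ u : C, f u ∈ C := fun u => hmemC.2 (by
    have h1' := hecomm u
    rcases hev with h | h
    · rwa [h] at h1'
    · rw [h] at h1'
      have h1 : f u * (z * v) = z * (f u * v) := by rw [← mul_assoc, hzc' (f u), mul_assoc]
      rw [h1, mul_assoc] at h1'
      exact mul_left_cancel h1')
  let f' : C →* C := f.codRestrict C hfC
  have hf' : Function.Bijective f' := Finite.injective_iff_bijective.1 fun a b h =>
    hfinj (congrArg Subtype.val h)
  let φ : MulAut C := MulEquiv.ofBijective f' hf'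
  let ψ : MulAut C := MulAut.conjNormal s
  have hCz : ∀ w : C, orderOf w = 2 → w = ⟨z, hzC⟩ ∨ w = ⟨v, hvC⟩ ∨ w = ⟨z * v, hzvC⟩ := fun w hw => by
    rcases inV' (w : T) (by rw [Subgroup.orderOf_coe, hw]) (hmemC.1 w.2) with h | h | h
    · exact Or.inl (Subtype.ext h)
    · exact Or.inr (Or.inl (Subtype.ext h))
    · exact Or.inr (Or.inr (Subtype.ext h))
  have φv : φ ⟨v, hvC⟩ = ⟨z, hzC⟩ := Subtype.ext hfv
  have φz : (φ ⟨z, hzC⟩ : T) = e := rfl
  have φzv : (φ ⟨z * v, hzvC⟩ : T) = e * z := by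
    show f (⟨z, hzC⟩ * ⟨v, hvC⟩) = _
    rw [map_mul, hfv]
  have ψz : ψ ⟨z, hzC⟩ = ⟨z, hzC⟩ := Subtype.ext (by
    rw [MulAut.conjNormal_apply]; exact mul_inv_eq_iff_eq_mul.2 (hzc' s))
  have ψv : ψ ⟨v, hvC⟩ = ⟨z * v, hzvC⟩ := Subtype.ext (by rw [MulAut.conjNormal_apply]; exact hsz)
  have ψzv : ψ ⟨z * v, hzvC⟩ = ⟨v, hvC⟩ := Subtype.ext (by rw [MulAut.conjNormal_apply]; exact hszv)
  have htrans : ∃ χ : MulAut C, ∀ a b : C, orderOf a = 2 → orderOf b = 2 → ∃ k : ℕ, (χ ^ k) a = b := by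
    rcases hev with h | h
    · refine ⟨ψ * φ, trans_of_cycle _ (a := ⟨z, hzC⟩) (b := ⟨z * v, hzvC⟩) (c := ⟨v, hvC⟩) ?_ ?_ ?_ ?_⟩
      · show ψ (φ _) = _
        rw [show φ ⟨z, hzC⟩ = ⟨v, hvC⟩ from Subtype.ext (φz.trans h), ψv]
      · show ψ (φ _) = _
        rw [show φ ⟨z * v, hzvC⟩ = ⟨z * v, hzvC⟩ from Subtype.ext (φzv.trans (by rw [h]; exact hzc' v)), ψzv]
      · show ψ (φ _) = _
        rw [φv, ψz]
      · intro w hw
        rcases hCz w hw with h' | h' | h'
        · exact Or.inl h'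
        · exact Or.inr (Or.inr h')
        · exact Or.inr (Or.inl h')
    · refine ⟨φ, trans_of_cycle _ (a := ⟨z, hzC⟩) (b := ⟨z * v, hzvC⟩) (c := ⟨v, hvC⟩) ?_ ?_ φv ?_⟩
      · exact Subtype.ext (φz.trans h)
      · refine Subtype.ext (φzv.trans ?_)
        rw [h, mul_assoc, hzc' v, ← mul_assoc, hz2, one_mul]
      · intro w hw
        rcases hCz w hw with h' | h' | h'
        · exact Or.inl h'
        · exact Or.inr (Or.inr h')
        · exact Or.inr (Or.inl h')
  obtain ⟨χ, hχ⟩ := htrans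
  have hC1 : ¬ Cfsg.PRankLE 2 1 C := by
    intro hle
    have hVC : V ≤ C := fun w hw => hmemC.2 (by
      have h := hV2 _ (V.mul_mem hw hvV)
      have e1 : (w * v)⁻¹ = w * v := inv_eq_of_mul_eq_one_right h
      rw [mul_inv_rev, inv_eq_of_mul_eq_one_right hv2, inv_eq_of_mul_eq_one_right (hV2 w hw)] at e1
      exact e1.symm)
    have := hle (V.subgroupOf C) ⟨⟨fun a b => by
        refine Subtype.ext (Subtype.ext ?_)
        have ha := hV2 _ (Subgroup.mem_subgroupOf.1 a.2)
        have hb := hV2 _ (Subgroup.mem_subgroupOf.1 b.2)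
        have h := hV2 _ (V.mul_mem (Subgroup.mem_subgroupOf.1 a.2) (Subgroup.mem_subgroupOf.1 b.2))
        have e1 := inv_eq_of_mul_eq_one_right h
        rw [mul_inv_rev, inv_eq_of_mul_eq_one_right ha, inv_eq_of_mul_eq_one_right hb] at e1
        exact e1.symm⟩⟩
      (fun a ha => Subtype.ext (by
        rw [Subgroup.coe_pow, pow_two]; exact hV2 _ (Subgroup.mem_subgroupOf.1 ha)))
    rw [Nat.card_congr (Subgroup.subgroupOfEquivOfLe hVC).toEquiv, hV4] at this
    norm_num at this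
  obtain ⟨n, hn, ⟨eC⟩⟩ | ⟨D, hna, hD4, hD64⟩ :=
    RankTwoTrans.classify (hT.to_subgroup C) (rank_sub hr2 C) hC1 χ hχ
  · rcases eq_or_lt_of_le hn with hn1 | hn2
    · subst hn1
      refine Or.inl (hsmallC fun u hu => ?_)
      have hb : ∀ b : Multiplicative (ZMod (2 ^ 1) × ZMod (2 ^ 1)), b * b = 1 := by
        exact sq_one_bits
      have h : eC (⟨u, hu⟩ * ⟨u, hu⟩) = 1 := by rw [map_mul, hb]
      exact congrArg Subtype.val ((map_eq_one_iff _ eC.injective).1 h)
    · exact Or.inr (Or.inl (wreathed_of_homocyclic C hCidx hn2 eC hvC hv2 hv1 hzvv hsC hsz))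
  · exfalso
    obtain ⟨N⟩ := U34Uniq.exists_NF D hna hD4 hD64
    refine no_swap_auto N hD64 ψ (fun x => ⟨⟨s * s, hsq s⟩, Subtype.ext ?_⟩)
      (v₁ := ⟨v, hvC⟩) (v₂ := ⟨z * v, hzvC⟩) (Subtype.ext hv2) (Subtype.ext hzv2)
      (fun h => hzvv (congrArg Subtype.val h).symm) ψv ψzv
    show ((ψ (ψ x) : C) : T) = s * s * x * (s * s)⁻¹
    rw [MulAut.conjNormal_apply, MulAut.conjNormal_apply]
    group

end Cfsg.Agent.RankTwoSylow
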